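import Cfsg.Agent.H940.EngData

/-!
# Interface of the order sieve for the Baby Monster (helper10, for S5527)

`Core G` : `G` is simple of the order of `B`, with the classification and the table of orders (`H940.Eng.Base`).
`Cen G p c` : the elements of order `p` have centralizers of order `c`.
`Hyp G` : all of it. Orders of the normalizers; criteria `top_*` : a subgroup whose order is divisible by certain
numbers is everything.
-/

set_option autoImplicit false
set_option linter.all false

namespace Cfsg.Agent.BX.Sieve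

open Subgroup Cfsg.Agent.OrdDiv Cfsg.Agent.H940.Eng Cfsg.Agent.H940.Eng.D

/-- `G` is simple of the order of `B`; the classification and the table of orders -/
structure Core (G : Type) [Group G] : Prop where
  fin : Finite G
  simple : IsSimpleGroup G
  card : Nat.card G = n_b
  base : Base

/-- the elements of order `p` have centralizers of order `c` -/
def Cen (G : Type) [Group G] (p c : ℕ) : Prop :=
  ∀ x : G, orderOf x = p → Nat.card (centralizer ({x} : Set G)) = c

/-- everything -/
structure Hyp (G : Type) [Group G] : Prop where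
  core : Core G
  c47 : Cen G 47 47
  c31 : Cen G 31 31
  c23 : Cen G 23 46
  c19 : Cen G 19 38
  c17 : Cen G 17 68
  c13 : Cen G 13 312
  c11 : Cen G 11 1320

variable {G : Type} [Group G]

theorem n_b_eq : n_b = 4154781481226426191177580544000000 := rfl

theorem Core.transport {G' : Type} [Group G'] (c : Core G) (e : G ≃* G') : Core G' := by
  haveI := c.fin
  haveI := c.simple
  exact ⟨Finite.of_equiv G e.toEquiv, e.symm.isSimpleGroup, (Nat.card_congr e.toEquiv).symm.trans c.card, c.base⟩

theorem Cen.transport {G' : Type} [Group G'] {p c : ℕ} (h : Cen G p c) (e : G ≃* G') : Cen G' p c := by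
  intro x hx
  rw [← h (e.symm x) (by rw [MulEquiv.orderOf_eq, hx])]
  refine Nat.card_congr ⟨fun g => ⟨e.symm g, ?_⟩, fun g => ⟨e g, ?_⟩, fun g => ?_, fun g => ?_⟩
  · have h1 := mem_centralizer_singleton_iff.1 g.2
    rw [mem_centralizer_singleton_iff, ← map_mul, ← map_mul, h1]
  · have h1 := mem_centralizer_singleton_iff.1 g.2
    rw [mem_centralizer_singleton_iff]
    have h2 := congrArg e h1
    rwa [map_mul, map_mul, e.apply_symm_apply] at h2
  · exact Subtype.ext (e.apply_symm_apply _)
  · exact Subtype.ext (e.symm_apply_apply _)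

theorem Hyp.transport {G' : Type} [Group G'] (h : Hyp G) (e : G ≃* G') : Hyp G' :=
  ⟨h.core.transport e, h.c47.transport e, h.c31.transport e, h.c23.transport e, h.c19.transport e, h.c17.transport e,
    h.c13.transport e, h.c11.transport e⟩

/-- the unique `e` allowed by Sylow's theorem -/
def nchk (n r c e0 : ℕ) : Bool :=
  isPrimeB r && n % r ^ 2 != 0 && (List.range r).all fun e => n % (c * e) != 0 || (n / (c * e)) % r != 1 || e == e0

/-- orders of the centralizer and of the normalizer of a subgroup of prime order `r`, `r² ∤ |G|` -/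
theorem cn_of_cen [Finite G] {n r c e0 : ℕ} (hn : Nat.card G = n) (h : Cen G r c) (hc : nchk n r c e0 = true)
    {R : Subgroup G} (hR : Nat.card R = r) :
    Nat.card (centralizer (R : Set G)) = c ∧ Nat.card (normalizer (R : Set G)) = c * e0 := by
  unfold nchk at hc
  rw [Bool.and_eq_true, Bool.and_eq_true, List.all_eq_true, bne_iff_ne] at hc
  obtain ⟨⟨h1, h2⟩, h3⟩ := hc
  have hr : r.Prime := prime_of h1
  haveI := Fact.mk hr
  have h2' : ¬ r ^ 2 ∣ Nat.card G := by
    rw [hn]
    exact fun h => h2 (Nat.mod_eq_zero_of_dvd h)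
  obtain ⟨x, hx⟩ := exists_prime_orderOf_dvd_card' (G := G) r (hR ▸ card_subgroup_dvd_card R)
  have hC : Nat.card (centralizer (R : Set G)) = c := by
    rw [H904.SylOne.card_centralizer_eq hR (by rw [Nat.card_zpowers, hx]) h2', H904.SylOne.centralizer_zpowers_eq, h x hx]
  refine ⟨hC, ?_⟩
  obtain ⟨e, he, hN⟩ := H904.SylOne.card_nc hR
  obtain ⟨s, hs, hs1⟩ := H904.SylOne.card_normalizer_mod hR h2'
  rw [hC] at hN
  have hNpos : 0 < Nat.card (normalizer (R : Set G)) := Nat.card_pos
  have her : e < r := by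
    have h4 := Nat.le_of_dvd (by have := hr.two_le; omega) he
    have := hr.two_le
    omega
  have hcen : n = c * e * s := by rw [← hn, hs, hN]
  have h5 := h3 e (List.mem_range.2 her)
  rw [Bool.or_eq_true, Bool.or_eq_true, bne_iff_ne, bne_iff_ne, beq_iff_eq] at h5
  rcases h5 with (h5 | h5) | h5
  · exact absurd (Nat.mod_eq_zero_of_dvd ⟨s, hcen⟩) h5
  · refine absurd ?_ h5
    rw [Nat.div_eq_of_eq_mul_right (hN ▸ hNpos) hcen, hs1, Nat.mod_eq_of_lt hr.one_lt]
  · rw [hN, h5]

theorem norm_of_cen [Finite G] {n r c e0 : ℕ} (hn : Nat.card G = n) (h : Cen G r c) (hc : nchk n r c e0 = true)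
    {x : G} (hx : orderOf x = r) : Nat.card (normalizer ((zpowers x : Subgroup G) : Set G)) = c * e0 :=
  (cn_of_cen hn h hc (by rw [Nat.card_zpowers, hx])).2

theorem loc_of_cen [Finite G] {n r c e0 : ℕ} (hn : Nat.card G = n) (h : Cen G r c) (hc : nchk n r c e0 = true)
    {fN : List (ℕ × ℕ)} (hf : ((fN.all fun x => isPrimeB x.1) && prodl fN == c * e0) = true) : Loc G ⟨r, c, fN⟩ := by
  have hc' := hc
  unfold nchk at hc'
  rw [Bool.and_eq_true, Bool.and_eq_true] at hc'
  rw [Bool.and_eq_true, beq_iff_eq] at hf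
  refine loc_of_eq hn hc'.1.1 hc'.1.2 hf.1 fun R hR => ?_
  obtain ⟨h1, h2⟩ := cn_of_cen hn h hc hR
  rw [h1, h2, hf.2]
  exact ⟨dvd_rfl, dvd_rfl⟩

def ld47 : LD := ⟨47, 47, [(23, 1), (47, 1)]⟩
def ld31 : LD := ⟨31, 31, [(3, 1), (5, 1), (31, 1)]⟩
def ld23 : LD := ⟨23, 46, [(2, 1), (11, 1), (23, 1)]⟩
def ld19 : LD := ⟨19, 38, [(2, 2), (3, 2), (19, 1)]⟩
def ld17 : LD := ⟨17, 68, [(2, 6), (17, 1)]⟩
def ld13 : LD := ⟨13, 312, [(2, 5), (3, 2), (13, 1)]⟩
def ld11 : LD := ⟨11, 1320, [(2, 4), (3, 1), (5, 2), (11, 1)]⟩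

theorem k47 : nchk n_b 47 47 23 = true := by decide +kernel
theorem k31 : nchk n_b 31 31 15 = true := by decide +kernel
theorem k23 : nchk n_b 23 46 11 = true := by decide +kernel
theorem k19 : nchk n_b 19 38 18 = true := by decide +kernel
theorem k17 : nchk n_b 17 68 16 = true := by decide +kernel
theorem k13 : nchk n_b 13 312 12 = true := by decide +kernel
theorem k11 : nchk n_b 11 1320 10 = true := by decide +kernel

theorem dvd_of_pow {X : Subgroup G} {p : ℕ} (hp : p.Prime) {t : G} (ht : t ∈ X) (h1 : t ^ p = 1) (h2 : t ≠ 1) :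
    p ∣ Nat.card X := by
  haveI := Fact.mk hp
  have h3 : orderOf t = p := orderOf_eq_prime h1 h2
  rw [← h3]
  exact orderOf_dvd_natCard X ht

section
variable (c : Core G)
include c

theorem Core.loc47 (h : Cen G 47 47) : Loc G ld47 := by
  haveI := c.fin; exact loc_of_cen c.card h k47 (by decide +kernel)
theorem Core.loc31 (h : Cen G 31 31) : Loc G ld31 := by
  haveI := c.fin; exact loc_of_cen c.card h k31 (by decide +kernel)
theorem Core.loc23 (h : Cen G 23 46) : Loc G ld23 := by
  haveI := c.fin; exact loc_of_cen c.card h k23 (by decide +kernel)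
theorem Core.loc19 (h : Cen G 19 38) : Loc G ld19 := by
  haveI := c.fin; exact loc_of_cen c.card h k19 (by decide +kernel)
theorem Core.loc17 (h : Cen G 17 68) : Loc G ld17 := by
  haveI := c.fin; exact loc_of_cen c.card h k17 (by decide +kernel)
theorem Core.loc13 (h : Cen G 13 312) : Loc G ld13 := by
  haveI := c.fin; exact loc_of_cen c.card h k13 (by decide +kernel)
theorem Core.loc11 (h : Cen G 11 1320) : Loc G ld11 := by
  haveI := c.fin; exact loc_of_cen c.card h k11 (by decide +kernel)

theorem Core.norm47 (h : Cen G 47 47) {x : G} (hx : orderOf x = 47) :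
    Nat.card (normalizer ((zpowers x : Subgroup G) : Set G)) = 1081 := by
  haveI := c.fin; exact norm_of_cen c.card h k47 hx
theorem Core.norm31 (h : Cen G 31 31) {x : G} (hx : orderOf x = 31) :
    Nat.card (normalizer ((zpowers x : Subgroup G) : Set G)) = 465 := by
  haveI := c.fin; exact norm_of_cen c.card h k31 hx
theorem Core.norm23 (h : Cen G 23 46) {x : G} (hx : orderOf x = 23) :
    Nat.card (normalizer ((zpowers x : Subgroup G) : Set G)) = 506 := by
  haveI := c.fin; exact norm_of_cen c.card h k23 hx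
theorem Core.norm19 (h : Cen G 19 38) {x : G} (hx : orderOf x = 19) :
    Nat.card (normalizer ((zpowers x : Subgroup G) : Set G)) = 684 := by
  haveI := c.fin; exact norm_of_cen c.card h k19 hx
theorem Core.norm17 (h : Cen G 17 68) {x : G} (hx : orderOf x = 17) :
    Nat.card (normalizer ((zpowers x : Subgroup G) : Set G)) = 1088 := by
  haveI := c.fin; exact norm_of_cen c.card h k17 hx
theorem Core.norm13 (h : Cen G 13 312) {x : G} (hx : orderOf x = 13) :
    Nat.card (normalizer ((zpowers x : Subgroup G) : Set G)) = 3744 := by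
  haveI := c.fin; exact norm_of_cen c.card h k13 hx
theorem Core.norm11 (h : Cen G 11 1320) {x : G} (hx : orderOf x = 11) :
    Nat.card (normalizer ((zpowers x : Subgroup G) : Set G)) = 13200 := by
  haveI := c.fin; exact norm_of_cen c.card h k11 hx

/-- **the generic criterion** : `L ∣ |X|`, main prime `ld`, further local data `loc` -/
theorem Core.top_of {L : ℕ} {ld : LD} {loc : List LD} (hld : Loc G ld) (hl : ∀ x ∈ loc, Loc G x)
    (hc : check2 l_b n_b L ld [] 0 loc o_b = true) {X : Subgroup G} (hX : L ∣ Nat.card X) : X = ⊤ := by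
  haveI := c.fin
  haveI := c.simple
  exact top_of_check2 v_b nd_b c.card (ords_b c.base) hl hld (fun _ hp => absurd hp List.not_mem_nil) hX hc

theorem Core.top_47_5 (h : Cen G 47 47) {X : Subgroup G} (h1 : 47 ∣ Nat.card X) (h2 : 5 ∣ Nat.card X) : X = ⊤ :=
  c.top_of (L := 47 * 5) (loc := []) (c.loc47 h) (fun _ hp => absurd hp List.not_mem_nil) (by decide +kernel)
    (Nat.Coprime.mul_dvd_of_dvd_of_dvd (by norm_num) h1 h2)

theorem Core.top_47_9 (h : Cen G 47 47) {X : Subgroup G} (h1 : 47 ∣ Nat.card X) (h2 : 9 ∣ Nat.card X) : X = ⊤ :=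
  c.top_of (L := 47 * 9) (loc := []) (c.loc47 h) (fun _ hp => absurd hp List.not_mem_nil) (by decide +kernel)
    (Nat.Coprime.mul_dvd_of_dvd_of_dvd (by norm_num) h1 h2)

theorem Core.top_31_11 (h : Cen G 31 31) {X : Subgroup G} (h1 : 31 ∣ Nat.card X) (h2 : 11 ∣ Nat.card X) : X = ⊤ :=
  c.top_of (L := 31 * 11) (loc := []) (c.loc31 h) (fun _ hp => absurd hp List.not_mem_nil) (by decide +kernel)
    (Nat.Coprime.mul_dvd_of_dvd_of_dvd (by norm_num) h1 h2)

theorem Core.top_31_23 (h : Cen G 31 31) {X : Subgroup G} (h1 : 31 ∣ Nat.card X) (h2 : 23 ∣ Nat.card X) : X = ⊤ :=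
  c.top_of (L := 31 * 23) (loc := []) (c.loc31 h) (fun _ hp => absurd hp List.not_mem_nil) (by decide +kernel)
    (Nat.Coprime.mul_dvd_of_dvd_of_dvd (by norm_num) h1 h2)

theorem Core.top_31_17 (h : Cen G 31 31) (h' : Cen G 17 68) {X : Subgroup G} (h1 : 31 ∣ Nat.card X)
    (h2 : 17 ∣ Nat.card X) : X = ⊤ :=
  c.top_of (L := 31 * 17) (loc := [ld17]) (c.loc31 h)
    (fun _ hp => by rw [List.mem_singleton.1 hp]; exact c.loc17 h') (by decide +kernel)
    (Nat.Coprime.mul_dvd_of_dvd_of_dvd (by norm_num) h1 h2)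

theorem Core.top_23_19 (h : Cen G 23 46) {X : Subgroup G} (h1 : 23 ∣ Nat.card X) (h2 : 19 ∣ Nat.card X) : X = ⊤ :=
  c.top_of (L := 23 * 19) (loc := []) (c.loc23 h) (fun _ hp => absurd hp List.not_mem_nil) (by decide +kernel)
    (Nat.Coprime.mul_dvd_of_dvd_of_dvd (by norm_num) h1 h2)

/-! ### the forms used by the tests -/

/-- an overgroup of `H` (order divisible by `5` or `9`) with an element of order `47` is everything -/
theorem Core.big47 (h : Cen G 47 47) {H X : Subgroup G} (hH : 5 ∣ Nat.card H ∨ 9 ∣ Nat.card H) (hHX : H ≤ X)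
    (h1 : 47 ∣ Nat.card X) : X = ⊤ :=
  hH.elim (fun h2 => c.top_47_5 h h1 (h2.trans (card_dvd_of_le hHX)))
    (fun h2 => c.top_47_9 h h1 (h2.trans (card_dvd_of_le hHX)))

/-- an overgroup of `H` (order divisible by `55`) with an element of order `31` or `47` is everything -/
theorem Core.big55 (h : Cen G 47 47) (h' : Cen G 31 31) {H X : Subgroup G} (hH : 55 ∣ Nat.card H) (hHX : H ≤ X)
    (h1 : 31 ∣ Nat.card X ∨ 47 ∣ Nat.card X) : X = ⊤ :=
  have h3 : 55 ∣ Nat.card X := hH.trans (card_dvd_of_le hHX)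
  h1.elim (fun h2 => c.top_31_11 h' h2 ((by norm_num : 11 ∣ 55).trans h3))
    (fun h2 => c.top_47_5 h h2 ((by norm_num : 5 ∣ 55).trans h3))

/-- an overgroup of `H` (order divisible by `153 = 9 * 17`) with an element of order `31` or `47` is everything -/
theorem Core.big153 (h : Cen G 47 47) (h' : Cen G 31 31) (h'' : Cen G 17 68) {H X : Subgroup G} (hH : 153 ∣ Nat.card H)
    (hHX : H ≤ X) (h1 : 31 ∣ Nat.card X ∨ 47 ∣ Nat.card X) : X = ⊤ :=
  have h3 : 153 ∣ Nat.card X := hH.trans (card_dvd_of_le hHX)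
  h1.elim (fun h2 => c.top_31_17 h' h'' h2 ((by norm_num : 17 ∣ 153).trans h3))
    (fun h2 => c.top_47_9 h h2 ((by norm_num : 9 ∣ 153).trans h3))

end

end Cfsg.Agent.BX.Sieve
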