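import Cfsg.Agent.H940.EngData
import Cfsg.Agent.BX.Max.Iface

/-!
# The field `ords` of `BX.Max.Sieve` (helper10, for S5527)
-/

set_option autoImplicit false
set_option linter.all false

namespace Cfsg.Agent.BX.Sieve

open Cfsg.Agent.H940.Eng Cfsg.Agent.H940.Eng.D

theorem nB_eq : Max.nB = n_b := rfl

theorem oB_eq : Max.oB = o_b := by decide +kernel

/-- the orders of the nonabelian simple groups with order dividing `|B|` -/
theorem ords (B : Base) : ∀ (S : Type) [Group S] [Finite S], IsSimpleGroup S → (¬ ∀ a b : S, a * b = b * a) →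
    Nat.card S ∣ Max.nB → Nat.card S ∈ Max.oB := by
  intro S _ _ h1 h2 h3
  rw [oB_eq]
  exact ords_b B S h1 h2 h3

end Cfsg.Agent.BX.Sieve
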